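import Cfsg.Agent.H37.ZMain

set_option autoImplicit false

/-! # Two-transitive groups on a coset space with abelian-by-complement stabiliser (helper2) -/

namespace Cfsg.Agent.BTI

open scoped Classical
open Cfsg Cfsg.Agent.H34 Cfsg.Agent.H37.ZT

universe u

variable {G : Type u} [Group G]

/-- `G` acts on the cosets of `B` as a Zassenhaus-type group with kernel `F` -/
structure Quot (B F : Subgroup G) : Prop where
  le : F ≤ B
  norm : ∀ b ∈ B, ∀ x ∈ F, b * x * b⁻¹ ∈ F
  free : ∀ g, g ∉ B → ∀ x ∈ F, x ≠ 1 → g⁻¹ * x * g ∉ B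
  cent : ∀ x ∈ F, x ≠ 1 → ∀ h ∈ B, h * x = x * h → h ∈ F
  idx : B.index = Nat.card F + 1
  two : 2 ≤ Nat.card F

/-- base point -/
def base (B : Subgroup G) : G ⧸ B := ((1 : G) : G ⧸ B)

theorem mem_stab_base {B : Subgroup G} {g : G} : g ∈ MulAction.stabilizer G (base B) ↔ g ∈ B := by
  rw [MulAction.mem_stabilizer_iff]
  show ((g * 1 : G) : G ⧸ B) = ((1 : G) : G ⧸ B) ↔ _
  rw [mul_one, eq_comm, QuotientGroup.eq, inv_one, one_mul]

theorem mk_eq {B : Subgroup G} (g : G) : ((g : G) : G ⧸ B) = g • base B := by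
  show _ = ((g * 1 : G) : G ⧸ B); rw [mul_one]

theorem smul_base {B : Subgroup G} {g : G} : g • base B = base B ↔ g ∈ B := mem_stab_base

theorem mem_stab_smul {B : Subgroup G} {g h : G} : h • (g • base B) = g • base B ↔ g⁻¹ * h * g ∈ B := by
  rw [← smul_base (B := B), mul_smul, mul_smul, inv_smul_eq_iff]

variable [Finite G] {B F : Subgroup G}

namespace Quot

variable (Q : Quot B F)
include Q

theorem card_quot : Nat.card (G ⧸ B) = Nat.card F + 1 := Q.idx

theorem card_ne : Nat.card {w : G ⧸ B // w ≠ base B} = Nat.card F := by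
  letI : Fintype (G ⧸ B) := Fintype.ofFinite _
  rw [Nat.card_eq_fintype_card, Fintype.card_subtype_compl, Fintype.card_subtype_eq,
      ← Nat.card_eq_fintype_card, Q.card_quot]
  rfl

theorem fix_F {y : G ⧸ B} (hy : y ≠ base B) {x : G} (hx : x ∈ F) (h : x • y = y) : x = 1 := by
  obtain ⟨g, rfl⟩ := QuotientGroup.mk_surjective y
  rw [mk_eq] at hy h
  by_contra hx1
  have hg : g ∉ B := fun hg => hy (smul_base.2 hg)
  exact Q.free g hg x hx hx1 (mem_stab_smul.1 h)

theorem regular (y w : G ⧸ B) (hy : y ≠ base B) (hw : w ≠ base B) : ∃! x : F, (x : G) • y = w := by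
  have hfix : ∀ x : F, (x : G) • base B = base B := fun x => smul_base.2 (Q.le x.2)
  let f : F → {w : G ⧸ B // w ≠ base B} := fun x => ⟨(x : G) • y, fun e => hy (by
    have : (x : G) • y = (x : G) • base B := e.trans (hfix x).symm
    exact smul_left_cancel _ this)⟩
  have hf : Function.Injective f := by
    intro x v huv
    have h1 : (x : G) • y = (v : G) • y := congrArg Subtype.val huv
    have h2 : ((v : G)⁻¹ * x) • y = y := by
      rw [mul_smul, h1, inv_smul_smul]
    have h3 := Q.fix_F hy (F.mul_mem (F.inv_mem v.2) x.2) h2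
    rw [inv_mul_eq_one] at h3
    exact Subtype.ext h3.symm
  have hbij : Function.Bijective f := (Nat.bijective_iff_injective_and_card f).2 ⟨hf, Q.card_ne.symm⟩
  obtain ⟨x, hx⟩ := hbij.2 ⟨w, hw⟩
  refine ⟨x, congrArg Subtype.val hx, fun v hv => ?_⟩
  apply hf
  rw [hx]
  exact Subtype.ext hv

theorem isKer : IsKer G (base B) F := by
  refine ⟨fun x hx => mem_stab_base.2 (Q.le hx), fun g hg x hx => Q.norm g (mem_stab_base.1 hg) x hx, Q.regular⟩

theorem exists_three : ∃ a b c : G ⧸ B, a ≠ b ∧ a ≠ c ∧ b ≠ c := by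
  letI : Fintype (G ⧸ B) := Fintype.ofFinite _
  have hcard' : Fintype.card (G ⧸ B) = Nat.card F + 1 := by
    rw [← Nat.card_eq_fintype_card]; exact Q.card_quot
  have := Q.two
  exact Fintype.two_lt_card_iff.1 (show 2 < Fintype.card (G ⧸ B) by omega)

theorem three (g : G) {a b c : G ⧸ B} (hab : a ≠ b) (hbc : b ≠ c) (hac : a ≠ c)
    (ha : g • a = a) (hb : g • b = b) (hc : g • c = c) : g = 1 := by
  obtain ⟨g1, rfl⟩ := QuotientGroup.mk_surjective a
  rw [mk_eq] at hab hac ha
  have h1 : g1⁻¹ • b ≠ base B := by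
    intro h; apply hab
    rw [← h, smul_inv_smul]
  have h2 : g1⁻¹ • c ≠ base B := by
    intro h; apply hac
    rw [← h, smul_inv_smul]
  obtain ⟨x, hx, huniq⟩ := Q.regular _ _ h1 h2
  simp only at hx huniq
  set h := g1⁻¹ * g * g1 with hh
  have hx' : h • base B = base B := by
    rw [hh, mul_smul, mul_smul, ha, inv_smul_smul]
  have hb' : h • (g1⁻¹ • b) = g1⁻¹ • b := by
    rw [hh, mul_smul, mul_smul, smul_inv_smul, hb]
  have hc' : h • (g1⁻¹ • c) = g1⁻¹ • c := by
    rw [hh, mul_smul, mul_smul, smul_inv_smul, hc]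
  have hhB : h ∈ B := smul_base.1 hx'
  have hmem : h * x * h⁻¹ ∈ F := Q.norm h hhB x x.2
  have h3 : (⟨h * x * h⁻¹, hmem⟩ : F) = x := by
    apply huniq
    show (h * x * h⁻¹) • (g1⁻¹ • b) = g1⁻¹ • c
    have h4 : h⁻¹ • (g1⁻¹ • b) = g1⁻¹ • b := by
      conv_lhs => rw [← hb']
      rw [inv_smul_smul]
    rw [mul_smul, h4, mul_smul, hx, hc']
  have h4 : h * x * h⁻¹ = x := congrArg Subtype.val h3
  have hu1 : (x : G) ≠ 1 := by
    intro e
    rw [e, one_smul] at hx
    exact hbc (smul_left_cancel _ hx)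
  have h5 : h ∈ F := Q.cent x x.2 hu1 h hhB (by rw [mul_inv_eq_iff_eq_mul] at h4; exact h4)
  have h7 : h = 1 := Q.fix_F h1 h5 hb'
  have : g = g1 * h * g1⁻¹ := by rw [hh]; group
  rw [this, h7]; group

theorem zgp : ZGp G (G ⧸ B) := by
  refine ⟨?_, ?_, ?_⟩
  · intro g hg
    obtain ⟨a, b, c, hab, hac, hbc⟩ := Q.exists_three
    exact Q.three g hab hbc hac (hg a) (hg b) (hg c)
  · intro a b c d hab hcd
    obtain ⟨g1, rfl⟩ := QuotientGroup.mk_surjective a
    obtain ⟨g2, rfl⟩ := QuotientGroup.mk_surjective c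
    rw [mk_eq] at hab hcd
    have h1 : g1⁻¹ • b ≠ base B := by
      intro h; apply hab
      rw [← h, smul_inv_smul]
    have h2 : g2⁻¹ • d ≠ base B := by
      intro h; apply hcd
      rw [← h, smul_inv_smul]
    obtain ⟨x, hx, -⟩ := Q.regular _ _ h1 h2
    refine ⟨g2 * x * g1⁻¹, ?_, ?_⟩
    · rw [mk_eq, mk_eq, mul_smul, inv_smul_smul, mul_smul, smul_base.2 (Q.le x.2)]
    · rw [mul_smul, mul_smul, hx, smul_inv_smul]
  · intro g a b c hab hbc hac ha hb hc
    exact Q.three g hab hbc hac ha hb hc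

/-- a normal regular subgroup forces a small group when `F` is odd and an involution fixes two points -/
theorem small_of_regular (hodd : Odd (Nat.card F)) {z : G} {b : G ⧸ B} (hb : b ≠ base B) (hz1 : z ≠ 1) (hzz : z * z = 1)
    (hz : z ∈ stab2 G (base B) b) {L : Subgroup G} (hL : L.Normal) (htr : MulAction.IsPretransitive L (G ⧸ B))
    (hreg : ∀ a : G ⧸ B, MulAction.stabilizer L a = ⊥) : Nat.card F = 3 := by
  have hinj : ∀ l ∈ L, ∀ l' ∈ L, l • base B = l' • base B → l = l' := by
    intro l hl l' hl' h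
    have h1 : (⟨l', hl'⟩ : L)⁻¹ * ⟨l, hl⟩ ∈ (⊥ : Subgroup L) := by
      rw [← hreg (base B), MulAction.mem_stabilizer_iff]
      show (l'⁻¹ * l) • base B = base B
      rw [mul_smul, h, inv_smul_smul]
    rw [Subgroup.mem_bot, inv_mul_eq_one] at h1
    exact (congrArg Subtype.val h1).symm
  have hLcard : Nat.card L = Nat.card F + 1 := by
    have h2 : Function.Bijective (fun l : L => (l : G) • base B) := by
      constructor
      · intro l m hlm
        exact Subtype.ext (hinj l l.2 m m.2 hlm)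
      · intro y
        exact htr.exists_smul_eq (base B) y
    rw [Nat.card_congr (Equiv.ofBijective _ h2), Q.card_quot]
  -- an involution in `L`
  haveI : Fact (Nat.Prime 2) := ⟨Nat.prime_two⟩
  obtain ⟨y, hy⟩ := exists_prime_orderOf_dvd_card' (G := L) 2 (by
    rw [hLcard]
    obtain ⟨k, hk⟩ := hodd
    exact ⟨k + 1, by omega⟩)
  have hyy : (y : G) * y = 1 := by
    have h1 := pow_orderOf_eq_one y
    rw [hy, sq] at h1
    exact congrArg Subtype.val h1
  have hy1 : (y : G) ≠ 1 := by
    intro h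
    have : y = 1 := Subtype.ext h
    rw [this, orderOf_one] at hy
    omega
  -- all elements of `L` are involutions
  have hLe : ∀ l ∈ L, l * l = 1 := by
    intro l hl
    by_cases hl1 : l = 1
    · rw [hl1, one_mul]
    have h1 : ∀ l ∈ L, l ≠ 1 → l • base B ≠ base B := by
      intro l hl hl1 h
      exact hl1 (hinj l hl 1 L.one_mem (by rw [h, one_smul]))
    obtain ⟨x, hx, -⟩ := Q.regular _ _ (h1 y y.2 hy1) (h1 l hl hl1)
    have h2 : (x : G) * y * (x : G)⁻¹ = l := by
      apply hinj _ (hL.conj_mem y y.2 x) _ hl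
      rw [mul_smul, mul_smul, smul_base.2 (B.inv_mem (Q.le x.2)), hx]
    rw [← h2]
    calc (x : G) * y * (x : G)⁻¹ * (x * y * (x : G)⁻¹) = x * ((y : G) * y) * (x : G)⁻¹ := by group
      _ = 1 := by rw [hyy]; group
  have hLinv : ∀ l ∈ L, l⁻¹ = l := fun l hl => inv_eq_of_mul_eq_one_left (hLe l hl)
  have hLc : ∀ l ∈ L, ∀ l' ∈ L, l * l' = l' * l := by
    intro l hl l' hl'
    have h1 := hLinv (l * l') (L.mul_mem hl hl')
    rw [mul_inv_rev, hLinv l hl, hLinv l' hl'] at h1
    exact h1.symm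
  -- the commutator map
  have hzinv : z⁻¹ = z := inv_eq_of_mul_eq_one_left hzz
  have hzst := mem_stab2.1 hz
  let φ : L →* L :=
    { toFun := fun l => ⟨l * (z * l * z⁻¹), L.mul_mem l.2 (hL.conj_mem l l.2 z)⟩
      map_one' := by apply Subtype.ext; simp
      map_mul' := by
        intro a c
        apply Subtype.ext
        show (a : G) * c * (z * (a * c) * z⁻¹) = a * (z * a * z⁻¹) * (c * (z * c * z⁻¹))
        have h1 := hLc c c.2 (z * a * z⁻¹) (hL.conj_mem a a.2 z)
        calc (a : G) * c * (z * (a * c) * z⁻¹) = a * (c * (z * a * z⁻¹)) * (z * c * z⁻¹) := by group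
          _ = _ := by rw [h1]; group }
  have hfixed : ∀ l ∈ L, z * l * z⁻¹ = l → l • base B = base B ∨ l • base B = b := by
    intro l hl h
    by_contra hcon
    push Not at hcon
    apply hz1
    apply Q.three z (a := base B) (b := b) (c := l • base B) hb.symm (Ne.symm hcon.2) (Ne.symm hcon.1) hzst.1 hzst.2
    rw [← mul_smul, mul_inv_eq_iff_eq_mul.1 h, mul_smul, hzst.1]
  have hker : Nat.card φ.ker ≤ 2 := by
    have h1 : ∀ l : φ.ker, z * ((l : L) : G) * z⁻¹ = ((l : L) : G) := by
      intro l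
      have h2 : ((l : L) : G) * (z * ((l : L) : G) * z⁻¹) = 1 := congrArg Subtype.val (MonoidHom.mem_ker.1 l.2)
      have h3 := (inv_eq_of_mul_eq_one_right h2)
      rw [hLinv _ (l : L).2] at h3
      exact h3.symm
    have h2 : Function.Injective (fun l : φ.ker => (if ((l : L) : G) • base B = base B then (0 : Fin 2) else 1)) := by
      intro l l' h
      apply Subtype.ext
      apply Subtype.ext
      apply hinj _ (l : L).2 _ (l' : L).2
      rcases hfixed _ (l : L).2 (h1 l) with h3 | h3 <;> rcases hfixed _ (l' : L).2 (h1 l') with h4 | h4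
      · rw [h3, h4]
      · exfalso
        simp only [h3, h4, if_pos, hb, if_false] at h
        exact absurd h (by decide)
      · exfalso
        simp only [h3, h4, if_pos, hb, if_false] at h
        exact absurd h (by decide)
      · rw [h3, h4]
    have h3 := Nat.card_le_card_of_injective _ h2
    rwa [Nat.card_eq_fintype_card (α := Fin 2), Fintype.card_fin] at h3
  have hrange : φ.range ≤ φ.ker := by
    rintro _ ⟨l, rfl⟩
    rw [MonoidHom.mem_ker]
    apply Subtype.ext
    show (l : G) * (z * l * z⁻¹) * (z * (l * (z * l * z⁻¹)) * z⁻¹) = 1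
    have h1 := hLc l l.2 (z * l * z⁻¹) (hL.conj_mem l l.2 z)
    have h2 := hLe _ (hL.conj_mem l l.2 z)
    have h3 := hLe l l.2
    calc (l : G) * (z * l * z⁻¹) * (z * (l * (z * l * z⁻¹)) * z⁻¹)
        = (l * (z * l * z⁻¹)) * (z * l * z⁻¹) * ((z * z) * l * (z * z)⁻¹) := by group
      _ = l * ((z * l * z⁻¹) * (z * l * z⁻¹)) * l := by rw [hzz]; group
      _ = 1 := by rw [h2, mul_one, h3]
  have h1 := Subgroup.card_mul_index φ.ker
  rw [Subgroup.index_ker] at h1
  have h2 := Subgroup.card_le_of_le hrange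
  have h3 : Nat.card L ≤ 4 := by
    rw [← h1]
    calc Nat.card φ.ker * Nat.card φ.range ≤ 2 * 2 := Nat.mul_le_mul hker (h2.trans hker)
      _ = 4 := rfl
  rw [hLcard] at h3
  have h4 := Q.two
  obtain ⟨k, hk⟩ := hodd
  omega

theorem stab2_card_le {b : G ⧸ B} (hb : b ≠ base B) : Nat.card (stab2 G (base B) b) ≤ Nat.card F - 1 := by
  obtain ⟨c, hc1, hc2⟩ : ∃ c : G ⧸ B, c ≠ base B ∧ c ≠ b := by
    obtain ⟨a, b', c, hab, hac, hbc⟩ := Q.exists_three
    by_cases h1 : a = base B ∨ a = b
    · by_cases h2 : b' = base B ∨ b' = b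
      · refine ⟨c, ?_, ?_⟩
        · rintro rfl
          rcases h1 with h1 | h1 <;> rcases h2 with h2 | h2
          · exact hab (h1.trans h2.symm)
          · exact hac h1
          · exact hbc h2
          · exact hab (h1.trans h2.symm)
        · rintro rfl
          rcases h1 with h1 | h1 <;> rcases h2 with h2 | h2
          · exact hab (h1.trans h2.symm)
          · exact hbc h2
          · exact hac h1
          · exact hab (h1.trans h2.symm)
      · push Not at h2; exact ⟨b', h2.1, h2.2⟩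
    · push Not at h1; exact ⟨a, h1.1, h1.2⟩
  have hmem : ∀ d ∈ stab2 G (base B) b, d • c ≠ base B ∧ d • c ≠ b := by
    intro d hd
    obtain ⟨h1, h2⟩ := mem_stab2.1 hd
    constructor
    · intro h
      rw [← h1] at h
      exact hc1 (smul_left_cancel _ h)
    · intro h
      exact hc2 (smul_left_cancel d (h.trans h2.symm))
  have h1 : Function.Injective (fun d : stab2 G (base B) b => (⟨(d : G) • c, hmem d d.2⟩ : {w : G ⧸ B // w ≠ base B ∧ w ≠ b})) := by
    intro d d' h
    have h2 : (d : G) • c = (d' : G) • c := congrArg Subtype.val h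
    have h3 : (d' : G)⁻¹ * d = 1 := by
      have h4 := mem_stab2.1 d.2
      have h5 := mem_stab2.1 d'.2
      apply Q.three ((d' : G)⁻¹ * d) hb.symm hc2.symm hc1.symm
      · rw [mul_smul, h4.1, inv_smul_eq_iff, h5.1]
      · rw [mul_smul, h4.2, inv_smul_eq_iff, h5.2]
      · rw [mul_smul, h2, inv_smul_smul]
    exact Subtype.ext (inv_mul_eq_one.1 h3).symm
  have h2 := Nat.card_le_card_of_injective _ h1
  letI : Fintype (G ⧸ B) := Fintype.ofFinite _
  have h3 : Nat.card {w : G ⧸ B // w ≠ base B ∧ w ≠ b} = Nat.card F - 1 := by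
    have h4 : Nat.card {w : G ⧸ B // w ≠ base B ∧ w ≠ b} = (Finset.univ.filter (fun w : G ⧸ B => w ≠ base B ∧ w ≠ b)).card := by
      rw [Nat.card_eq_fintype_card, Fintype.card_subtype]
    have h5 : (Finset.univ.filter (fun w : G ⧸ B => w ≠ base B ∧ w ≠ b)) = (Finset.univ.erase (base B)).erase b := by
      ext w
      simp only [Finset.mem_filter, Finset.mem_univ, true_and, Finset.mem_erase, and_true]
      exact and_comm
    rw [h4, h5, Finset.card_erase_of_mem (Finset.mem_erase.2 ⟨hb, Finset.mem_univ _⟩),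
      Finset.card_erase_of_mem (Finset.mem_univ _), Finset.card_univ, ← Nat.card_eq_fintype_card, Q.card_quot]
    rfl
  rwa [h3] at h2

end Quot

end Cfsg.Agent.BTI
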