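import Cfsg.Agent.Frob.Action
import Mathlib.LinearAlgebra.Matrix.SpecialLinearGroup
import Mathlib.LinearAlgebra.Matrix.ProjectiveSpecialLinearGroup
import Mathlib

set_option autoImplicit false

/-! # Abelian subgroups of odd order of `SL(2, 2^n)` are cyclic (helper2) -/

namespace Cfsg.Agent.BTI

open Matrix

/-- the action of `SL(2, K)` on column vectors -/
def slAct (K : Type) [Field K] : Matrix.SpecialLinearGroup (Fin 2) K →* MulAut (Multiplicative (Fin 2 → K)) where
  toFun a := AddEquiv.toMultiplicative (Matrix.SpecialLinearGroup.toLin' a).toAddEquiv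
  map_one' := by
    ext v
    simp
  map_mul' a b := by
    ext v
    simp

theorem sl_sq_of_fix {K : Type} [Field K] [CharP K 2] (a : Matrix.SpecialLinearGroup (Fin 2) K) (v : Fin 2 → K) (hv : v ≠ 0)
    (h : (a : Matrix (Fin 2) (Fin 2) K).mulVec v = v) : a * a = 1 := by
  have h2 : (2 : K) = 0 := CharTwo.two_eq_zero
  have hdet := a.2
  rw [Matrix.det_fin_two] at hdet
  have e0 := congrFun h 0
  have e1 := congrFun h 1
  simp only [Matrix.mulVec, dotProduct, Fin.sum_univ_two] at e0 e1
  set p := (a : Matrix (Fin 2) (Fin 2) K) 0 0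
  set q := (a : Matrix (Fin 2) (Fin 2) K) 0 1
  set r := (a : Matrix (Fin 2) (Fin 2) K) 1 0
  set s := (a : Matrix (Fin 2) (Fin 2) K) 1 1
  have htr : p + s = 0 := by
    have h3 : ∀ i, (p + s) * v i = 0 := by
      intro i
      fin_cases i
      · show (p + s) * v 0 = 0
        linear_combination e0 - (s * e0 - q * e1) + v 0 * hdet + v 0 * h2
      · show (p + s) * v 1 = 0
        linear_combination e1 - (p * e1 - r * e0) + v 1 * hdet + v 1 * h2
    by_contra hne
    apply hv
    ext i
    rcases mul_eq_zero.1 (h3 i) with h4 | h4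
    · exact absurd h4 hne
    · exact h4
  apply Subtype.ext
  show (a : Matrix (Fin 2) (Fin 2) K) * (a : Matrix (Fin 2) (Fin 2) K) = 1
  ext i j
  fin_cases i <;> fin_cases j
  · show ((a : Matrix (Fin 2) (Fin 2) K) * (a : Matrix (Fin 2) (Fin 2) K)) 0 0 = (1 : Matrix (Fin 2) (Fin 2) K) 0 0
    rw [Matrix.mul_apply, Fin.sum_univ_two, Matrix.one_apply_eq]
    show p * p + q * r = 1
    linear_combination p * htr - hdet - h2
  · show ((a : Matrix (Fin 2) (Fin 2) K) * (a : Matrix (Fin 2) (Fin 2) K)) 0 1 = (1 : Matrix (Fin 2) (Fin 2) K) 0 1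
    rw [Matrix.mul_apply, Fin.sum_univ_two, Matrix.one_apply_ne (by decide)]
    show p * q + q * s = 0
    linear_combination q * htr
  · show ((a : Matrix (Fin 2) (Fin 2) K) * (a : Matrix (Fin 2) (Fin 2) K)) 1 0 = (1 : Matrix (Fin 2) (Fin 2) K) 1 0
    rw [Matrix.mul_apply, Fin.sum_univ_two, Matrix.one_apply_ne (by decide)]
    show r * p + s * r = 0
    linear_combination r * htr
  · show ((a : Matrix (Fin 2) (Fin 2) K) * (a : Matrix (Fin 2) (Fin 2) K)) 1 1 = (1 : Matrix (Fin 2) (Fin 2) K) 1 1
    rw [Matrix.mul_apply, Fin.sum_univ_two, Matrix.one_apply_eq]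
    show r * q + s * s = 1
    linear_combination s * htr - hdet - h2

/-- an abelian group of odd order in `SL(2, K)`, `K` of characteristic two, is cyclic -/
theorem isCyclic_of_SL2 {K : Type} [Field K] [Finite K] [CharP K 2] {A : Type*} [CommGroup A] [Finite A]
    (f : A →* Matrix.SpecialLinearGroup (Fin 2) K) (hf : Function.Injective f) (hsq : ∀ a : A, a * a = 1 → a = 1) :
    IsCyclic A := by
  have hfpf : Frob.IsFPF ((slAct K).comp f) := by
    intro a ha w hw
    by_contra hw1
    apply ha
    apply hsq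
    apply hf
    rw [map_mul, map_one]
    refine sl_sq_of_fix (f a) (Multiplicative.toAdd w) (fun h => hw1 h) ?_
    exact hw
  haveI : Nontrivial (Multiplicative (Fin 2 → K)) := ⟨⟨Multiplicative.ofAdd 0, Multiplicative.ofAdd 1, fun h => by
    have h1 := congrFun (Multiplicative.ofAdd.injective h) 0
    exact zero_ne_one h1⟩⟩
  exact hfpf.isCyclic_of_comm

/-- an abelian group of odd order in `PSL(2, K)`, `K` of characteristic two, is cyclic -/
theorem isCyclic_of_PSL2 {K : Type} [Field K] [Finite K] [CharP K 2] {A : Type*} [CommGroup A] [Finite A]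
    (f : A →* Matrix.ProjectiveSpecialLinearGroup (Fin 2) K) (hf : Function.Injective f) (hsq : ∀ a : A, a * a = 1 → a = 1) :
    IsCyclic A := by
  have hcen : Subgroup.center (Matrix.SpecialLinearGroup (Fin 2) K) = ⊥ := by
    rw [eq_bot_iff]
    intro x hx
    rw [Matrix.SpecialLinearGroup.mem_center_iff] at hx
    obtain ⟨r, hr, h⟩ := hx
    rw [Fintype.card_fin] at hr
    have h2 : (2 : K) = 0 := CharTwo.two_eq_zero
    have hr1 : r = 1 := by
      have h3 : (r - 1) ^ 2 = 0 := by linear_combination hr + (1 - r) * h2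
      have h4 := pow_eq_zero_iff (two_ne_zero) |>.1 h3
      exact sub_eq_zero.1 h4
    rw [Subgroup.mem_bot]
    apply Subtype.ext
    rw [← h, hr1]
    simp
  have hinj : Function.Injective (QuotientGroup.mk' (Subgroup.center (Matrix.SpecialLinearGroup (Fin 2) K))) := by
    rw [← MonoidHom.ker_eq_bot_iff, QuotientGroup.ker_mk', hcen]
  let e : Matrix.SpecialLinearGroup (Fin 2) K ≃* Matrix.ProjectiveSpecialLinearGroup (Fin 2) K :=
    MulEquiv.ofBijective _ ⟨hinj, QuotientGroup.mk'_surjective _⟩
  exact isCyclic_of_SL2 (e.symm.toMonoidHom.comp f) (e.symm.injective.comp hf) hsq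

end Cfsg.Agent.BTI
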